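import Mathlib
import Cfsg.Agent.H323.OI.Iface
import Cfsg.Agent.S2609
import Cfsg.Agent.S2610
import Cfsg.Agent.LieClassical.OrthFinite
import Cfsg.Agent.LieClassical.OmegaCenter
import Cfsg.Agent.ClassicalGeometry.OrthSemi

/-!
# S3325, piece P1: facts on `Ω(U)` (helper519)
-/

set_option autoImplicit false

namespace Cfsg.Agent.H519.OI

open Cfsg Subgroup Matrix QuadraticMap
open Cfsg.Agent.H323.OI
open Cfsg.Agent.LieClassical.OrthFinite Cfsg.Agent.LieClassical.OrthCore Cfsg.Agent.LieClassical.OrthTrans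
open Cfsg.Agent.ClassicalGeometry.Reflection Cfsg.Agent.ClassicalGeometry.SpinorSign
open Cfsg.Agent.ClassicalGeometry.OmegaIndex

variable {F : Type} [Field F] {n : ℕ}

/-- `Ω` is quasisimple in dimension at least five. -/
theorem omega_quasisimple [Finite F] {ι : Type} [Fintype ι] [DecidableEq ι] (Q : QuadraticForm F (ι → F))
    (hn : 5 ≤ Fintype.card ι) (hQ : (polarBilin Q).Nondegenerate) : IsQuasisimple ↥(Omega F (⇑Q)) := by
  have hN : Nondeg Q := nondeg_of_nondegenerate hQ
  have hG : Good Q := good_of_finite hN (by rw [Module.finrank_fintype_fun_eq_card]; exact hn)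
  refine ⟨?_, isSimpleGroup_POmega hN hn⟩
  have h1 : commutator ↥(E Q) = ⊤ := Cfsg.Agent.ClassicalGeometry.OrthSemi.commutator_E hG
  have h2 : Group.IsPerfect ↥(E Q) := ⟨h1⟩
  have e : ↥(E Q) ≃* Omega F (⇑Q) :=
    ((omegaEquiv Q).trans (MulEquiv.subgroupCongr hG.commutator_eq_E)).symm
  exact Group.IsPerfect.ofSurjective (f := e.toMonoidHom) e.surjective

/-- the diagonal form is nondegenerate -/
theorem nondegenerate_dqF (h2 : (2 : F) ≠ 0) {c : Fin n → F} (hc : ∀ i, c i ≠ 0) :
    (polarBilin (dqF c)).Nondegenerate := by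
  have key : ∀ v : Fin n → F, (∀ w, polar (⇑(dqF c)) v w = 0) → v = 0 := by
    intro v hv
    funext i
    have h1 := hv (Pi.single i 1)
    rw [coe_dqF] at h1
    unfold polar at h1
    have h3 : ∀ w : Fin n → F, dq c w = ∑ j, c j * w j ^ 2 := fun _ => rfl
    rw [h3, h3, h3, ← Finset.sum_sub_distrib, ← Finset.sum_sub_distrib, Finset.sum_eq_single i] at h1
    · simp only [Pi.add_apply, Pi.single_eq_same] at h1
      have h4 : c i * (2 * v i) = 0 := by linear_combination h1
      rcases mul_eq_zero.1 h4 with h5 | h5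
      · exact absurd h5 (hc i)
      · rcases mul_eq_zero.1 h5 with h6 | h6
        · exact absurd h6 h2
        · exact h6
    · intro j _ hj
      simp only [Pi.add_apply, Pi.single_eq_of_ne hj]
      ring
    · intro h
      exact absurd (Finset.mem_univ i) h
  constructor
  · intro v hv
    exact key v fun w => by rw [← polarBilin_apply_apply]; exact hv w
  · intro v hv
    refine key v fun w => ?_
    rw [polar_comm, ← polarBilin_apply_apply]
    exact hv w

/-- squares of isometries lie in `Ω` -/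
theorem mul_self_mem_omega [Finite F] {ι : Type} [Fintype ι] [DecidableEq ι] (h2 : (2 : F) ≠ 0)
    (Q : QuadraticForm F (ι → F)) (hQ : (polarBilin Q).Nondegenerate)
    (g : Cfsg.isometryGroup F (⇑Q)) : g * g ∈ Omega F (⇑Q) := by
  have h : Abelianization.of g * Abelianization.of g = 1 := by
    refine Cfsg.Agent.ClassicalGeometry.CartanDieudonne.isometry_induction h2 Q hQ
      (fun g => Abelianization.of g * Abelianization.of g = 1) ?_ ?_ g
    · rw [map_one, one_mul]
    · intro v hv g hg
      have h1 : Abelianization.of (reflIso Q v hv) * Abelianization.of (reflIso Q v hv) = 1 := by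
        rw [← map_mul, reflIso_mul_self, map_one]
      show Abelianization.of (reflIso Q v hv * g) * Abelianization.of (reflIso Q v hv * g) = 1
      rw [map_mul, mul_mul_mul_comm, h1, one_mul]
      exact hg
  rw [← map_mul] at h
  exact (QuotientGroup.eq_one_iff (g * g)).1 h

/-! ### Diagonal sign matrices -/

/-- the diagonal sign isometry -/
def dg (c : Fin n → F) : (Fin n → ℤˣ) →* OO c where
  toFun ε := ⟨⟨diagonal fun i => (((ε i : ℤˣ) : ℤ) : F), diagonal fun i => (((ε i : ℤˣ) : ℤ) : F), by
      rw [diagonal_mul_diagonal, ← diagonal_one]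
      congr 1
      funext i
      rw [← Int.cast_mul, ← Units.val_mul, Int.units_mul_self, Units.val_one, Int.cast_one], by
      rw [diagonal_mul_diagonal, ← diagonal_one]
      congr 1
      funext i
      rw [← Int.cast_mul, ← Units.val_mul, Int.units_mul_self, Units.val_one, Int.cast_one]⟩, by
    rw [Cfsg.Agent.ClassicalGeometry.Reflection.mem_isometryGroup_iff]
    intro v
    show ∑ i, c i * ((diagonal fun i => (((ε i : ℤˣ) : ℤ) : F)) *ᵥ v) i ^ 2 = ∑ i, c i * v i ^ 2
    refine Finset.sum_congr rfl fun i _ => ?_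
    rw [mulVec_diagonal, mul_pow, ← Int.cast_pow, ← Units.val_pow_eq_pow_val, Int.units_sq, Units.val_one,
      Int.cast_one, one_mul]⟩
  map_one' := by
    apply Subtype.ext
    apply Units.ext
    show (diagonal fun i => ((((1 : Fin n → ℤˣ) i : ℤˣ) : ℤ) : F)) = 1
    simp
  map_mul' ε δ := by
    apply Subtype.ext
    apply Units.ext
    show (diagonal fun i => ((((ε * δ) i : ℤˣ) : ℤ) : F)) =
      (diagonal fun i => (((ε i : ℤˣ) : ℤ) : F)) * diagonal fun i => (((δ i : ℤˣ) : ℤ) : F)
    rw [diagonal_mul_diagonal]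
    congr 1
    funext i
    simp

theorem mx_dg (c : Fin n → F) (ε : Fin n → ℤˣ) : mx (dg c ε) = diagonal fun i => (((ε i : ℤˣ) : ℤ) : F) := rfl

theorem dg_injective (h2 : (2 : F) ≠ 0) (c : Fin n → F) : Function.Injective (dg c) := by
  rw [injective_iff_map_eq_one]
  intro ε hε
  funext i
  have h1 : mx (dg c ε) = 1 := by rw [hε]; rfl
  rw [mx_dg] at h1
  have h3 := congrFun (congrFun h1 i) i
  rw [diagonal_apply_eq, one_apply_eq] at h3
  rcases Int.units_eq_one_or (ε i) with h | h
  · exact h
  · exfalso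
    rw [h] at h3
    simp only [Units.val_neg, Units.val_one, Int.cast_neg, Int.cast_one] at h3
    apply h2
    linear_combination -h3

/-- the elementary abelian subgroup of order 16 -/
theorem exists_e16 (h2 : (2 : F) ≠ 0) (c : Fin n → F) (hidx : (Omega F (dq c)).index = 4) (hn : 8 ≤ n) :
    ∃ A : Subgroup (Om c), Nat.card ↥A = 16 ∧ ∀ a ∈ A, a * a = 1 := by
  classical
  have : Fact (Nat.Prime 2) := ⟨Nat.prime_two⟩
  set D : Subgroup (Fin n → ℤˣ) := (Omega F (dq c)).comap (dg c) with hD
  have h3 : D.index ∣ 4 := by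
    rw [hD, Subgroup.index_comap, ← hidx]
    have : (Omega F (dq c)).Normal := by unfold Omega; infer_instance
    exact Subgroup.relIndex_dvd_index_of_normal _ _
  have h4 : Nat.card ↥D * D.index = 2 ^ n := by
    rw [Subgroup.card_mul_index, Nat.card_eq_fintype_card, Fintype.card_fun, Fintype.card_fin, Fintype.card_units_int]
  have h5 : 2 ^ 4 ∣ Nat.card ↥D := by
    have h6 : (4 * 2 ^ 4 : ℕ) ∣ Nat.card ↥D * 4 := by
      have h7 : 2 ^ n ∣ Nat.card ↥D * 4 := by rw [← h4]; exact Nat.mul_dvd_mul_left _ h3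
      refine dvd_trans ?_ h7
      have h8 : (4 * 2 ^ 4 : ℕ) = 2 ^ 6 := by norm_num
      rw [h8]
      exact pow_dvd_pow 2 (by omega)
    rw [mul_comm (Nat.card ↥D) 4] at h6
    exact Nat.dvd_of_mul_dvd_mul_left (by norm_num) h6
  obtain ⟨K, hK⟩ := Sylow.exists_subgroup_card_pow_prime 2 h5
  let f : ↥D →* Om c := ((dg c).comp D.subtype).codRestrict _ fun x => x.2
  have hf : Function.Injective f := by
    intro x y hxy
    apply Subtype.ext
    apply dg_injective h2 c
    exact congrArg Subtype.val hxy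
  refine ⟨K.map f, ?_, ?_⟩
  · rw [← Nat.card_congr (K.equivMapOfInjective f hf).toEquiv, hK]
    norm_num
  · rintro _ ⟨x, hx, rfl⟩
    rw [← map_mul]
    have : x * x = 1 := by
      apply Subtype.ext
      funext i
      exact Int.units_mul_self _
    rw [this, map_one]

/-- `-1 ∈ Ω` -/
theorem negI_mem_iff [Fintype F] (h2 : (2 : F) ≠ 0) {c : Fin n → F} (hc : ∀ i, c i ≠ 0) (hn : 2 ≤ n) :
    negI c ∈ Omega F (dq c) ↔ Even n ∧ IsSquare (∏ i, c i) := by
  classical
  have hQ := nondegenerate_dqF h2 hc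
  have hcoe : ⇑(dqF c) = dq c := coe_dqF c
  have he : ∀ i : Fin n, dqF c (Pi.single i 1) = c i := by
    intro i
    have h1 : dqF c (Pi.single i 1) = dq c (Pi.single i 1) := congrFun hcoe _
    rw [h1]
    show ∑ j, c j * (Pi.single i (1 : F) : Fin n → F) j ^ 2 = c i
    rw [Finset.sum_eq_single i]
    · rw [Pi.single_eq_same]; ring
    · intro j _ hj
      rw [Pi.single_eq_of_ne hj]; ring
    · intro h
      exact absurd (Finset.mem_univ i) h
  have ho : ∀ i j : Fin n, i ≠ j → polar (⇑(dqF c)) (Pi.single i 1) (Pi.single j 1) = 0 := by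
    intro i j hij
    rw [hcoe]
    unfold polar
    have h3 : ∀ w : Fin n → F, dq c w = ∑ j, c j * w j ^ 2 := fun _ => rfl
    rw [h3, h3, h3, ← Finset.sum_sub_distrib, ← Finset.sum_sub_distrib]
    refine Finset.sum_eq_zero fun k _ => ?_
    by_cases hki : k = i
    · subst hki
      rw [Pi.add_apply, Pi.single_eq_same, Pi.single_eq_of_ne hij]
      ring
    · rw [Pi.add_apply, Pi.single_eq_of_ne hki]
      ring
  set vs : List (Fin n → F) := (List.finRange n).map (fun i => Pi.single i 1) with hvs
  have hvs0 : ∀ v ∈ vs, dqF c v ≠ 0 := by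
    intro v hv
    obtain ⟨i, -, rfl⟩ := List.mem_map.mp hv
    rw [he]
    exact hc i
  have hprod : (vs.map (fun v => Cfsg.reflectionMatrix ⇑(dqF c) v)).prod = -1 := by
    rw [hvs, List.map_map]
    refine Matrix.ext_of_mulVec_single fun j => ?_
    have h1 := Cfsg.Agent.S2610.prod_mulVec (dqF c) (fun i : Fin n => (Pi.single i 1 : Fin n → F))
      (fun i => by rw [he]; exact hc i) ho j (List.finRange n) (List.nodup_finRange n)
    rw [if_pos (List.mem_finRange j)] at h1
    rw [Matrix.neg_mulVec, Matrix.one_mulVec]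
    exact h1
  have hlen : vs.length = n := by rw [hvs, List.length_map, List.length_finRange]
  have hpr : (vs.map (fun v => dqF c v)).prod = ∏ i, c i := by
    rw [hvs, List.map_map, Fin.prod_univ_def]
    congr 1
    refine List.map_congr_left fun i _ => ?_
    exact he i
  have key : ∀ (f : (Fin n → F) → F) (hf : f = ⇑(dqF c)) (g : ↥(isometryGroup F f)), mx g = -1 →
      (g ∈ Omega F f ↔ Even n ∧ IsSquare (∏ i, c i)) := by
    rintro f rfl g hg
    rw [Cfsg.Agent.S2609.mem_Omega_of_prod h2 (by rw [Fintype.card_fin]; exact hn) (dqF c) hQ g vs hvs0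
      (by rw [hprod]; exact hg), hlen, hpr]
  exact key (dq c) hcoe.symm (negI c) rfl

/-- **Piece P1 of S3325.** -/
theorem pOmF : POmF := by
  intro F _ _ n c hodd hc hn
  classical
  have h2 : (2 : F) ≠ 0 := by
    intro h
    have h1 : ringChar F = 2 := CharP.ringChar_of_prime_eq_zero Nat.prime_two (by exact_mod_cast h)
    obtain ⟨k, -, hk⟩ := FiniteField.card F (ringChar F)
    rw [hk, h1] at hodd
    have h3 : Even (2 ^ (k : ℕ)) := Nat.even_pow.2 ⟨even_two, k.2.ne'⟩
    exact (Nat.not_even_iff_odd.2 hodd) h3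
  have hQ := nondegenerate_dqF h2 hc
  have hcoe : ⇑(dqF c) = dq c := coe_dqF c
  have hcard : Fintype.card (Fin n) = n := Fintype.card_fin n
  have hidx : (Omega F (dq c)).index = 4 := by
    have := index_Omega h2 (by rw [hcard]; omega) (dqF c) hQ
    rw [hcoe] at this
    exact this
  refine ⟨?_, ?_, hidx, ?_, ?_, negI_mem_iff h2 hc (by omega), exists_e16 h2 c hidx hn⟩
  · have := omega_quasisimple (dqF c) (by rw [hcard]; omega) hQ
    rw [hcoe] at this
    exact this
  · have key : ∀ (f : (Fin n → F) → F) (hf : f = ⇑(dqF c)) (g : ↥(isometryGroup F f)),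
        (∀ m ∈ Omega F f, g * m = m * g) → mx g = 1 ∨ mx g = -1 := by
      rintro f rfl g hg
      refine Cfsg.Agent.LieClassical.OmegaCenter.eq_one_or_neg_one_of_commute_omega (dqF c) hQ
        (by rw [hcard]; omega) ?_ g hg
      obtain ⟨w, hw0, hw, -⟩ := exists_sing_perp (Q := dqF c) (n := 0) ![] (by
        rw [Module.finrank_fintype_fun_eq_card, Fintype.card_fin]; omega)
      exact ⟨w, hw0, hw⟩
    intro g hg
    rcases key (dq c) hcoe.symm g hg with h | h
    · left
      apply Subtype.ext
      apply Units.ext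
      exact h
    · right
      apply Subtype.ext
      apply Units.ext
      exact h
  · have key : ∀ (f : (Fin n → F) → F) (hf : f = ⇑(dqF c)) (g : ↥(isometryGroup F f)),
        g * g ∈ Omega F f := by
      rintro f rfl g
      exact mul_self_mem_omega h2 (dqF c) hQ g
    exact key (dq c) hcoe.symm
  · have key : ∀ (f : (Fin n → F) → F) (hf : f = ⇑(dqF c)) (g : ↥(isometryGroup F f)),
        g ∈ Omega F f → (mx g).det = 1 := by
      rintro f rfl g hg
      exact ((mem_Omega_iff h2 (dqF c) hQ (by rw [hcard]; omega) (one_ne_zero (α := F)) g).1 hg).1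
    exact key (dq c) hcoe.symm

end Cfsg.Agent.H519.OI
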