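import Mathlib
import Cfsg.Agent.H323.OI.Pieces2
import Cfsg.Agent.LieClassical.FieldTransfer
import Cfsg.Agent.PermutationGroups.FieldCoord

/-!
# S3325: the reduction of the universes (helper519)

`red : PMain0 → <the statement of S3325>`.
-/

set_option autoImplicit false

namespace Cfsg.Agent.H519.OI

open Cfsg Subgroup Matrix
open Cfsg.Agent.H323.OI

universe u v w

/-! ### Fields -/

section Fields

variable {F : Type u} {K : Type v} [Field F] [Field K] {ι : Type} [Fintype ι] [DecidableEq ι] (σ : F ≃+* K)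

/-- `GL` over isomorphic fields -/
def glE : GL ι F ≃* GL ι K := Units.mapEquiv (σ.mapMatrix (m := ι)).toMulEquiv

theorem coe_glE (g : GL ι F) : ((glE σ g : GL ι K) : Matrix ι ι K) = (g : Matrix ι ι F).map σ := rfl

theorem map_isometryGroup {Q : (ι → F) → F} {Q' : (ι → K) → K} (hQ : ∀ v, Q' (σ ∘ v) = σ (Q v)) :
    (isometryGroup F Q).map (glE (ι := ι) σ).toMonoidHom = isometryGroup K Q' := by
  ext x
  rw [Cfsg.Agent.ClassicalGeometry.Reflection.mem_isometryGroup_iff]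
  constructor
  · rintro ⟨g, hg, rfl⟩ v
    have hg' := (Cfsg.Agent.ClassicalGeometry.Reflection.mem_isometryGroup_iff _ _).1 hg
    have hv : v = σ ∘ (σ.symm ∘ v) := by funext i; simp
    have h1 : ((glE σ g : GL ι K) : Matrix ι ι K) *ᵥ v = σ ∘ ((g : Matrix ι ι F) *ᵥ (σ.symm ∘ v)) := by
      conv_lhs => rw [hv]
      funext i
      rw [coe_glE]
      simp [Matrix.mulVec, dotProduct]
    show Q' (((glE σ g : GL ι K) : Matrix ι ι K) *ᵥ v) = Q' v
    rw [h1, hQ, hg']
    conv_rhs => rw [hv, hQ]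
  · intro hx
    refine ⟨(glE σ).symm x, ?_, (glE σ).apply_symm_apply x⟩
    show (glE σ).symm x ∈ isometryGroup F Q
    rw [Cfsg.Agent.ClassicalGeometry.Reflection.mem_isometryGroup_iff]
    intro v
    apply σ.injective
    rw [← hQ, ← hQ]
    have h1 : σ ∘ ((((glE σ).symm x : GL ι F) : Matrix ι ι F) *ᵥ v) = (x : Matrix ι ι K) *ᵥ (σ ∘ v) := by
      have h2 : (x : Matrix ι ι K) = (((glE σ).symm x : GL ι F) : Matrix ι ι F).map σ := by
        rw [← coe_glE, (glE σ).apply_symm_apply]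
      rw [h2]
      funext i
      simp [Matrix.mulVec, dotProduct]
    rw [h1, hx]

/-- the isometry groups over isomorphic fields -/
noncomputable def isoE {Q : (ι → F) → F} {Q' : (ι → K) → K} (hQ : ∀ v, Q' (σ ∘ v) = σ (Q v)) :
    ↥(isometryGroup F Q) ≃* ↥(isometryGroup K Q') :=
  ((glE (ι := ι) σ).subgroupMap (isometryGroup F Q)).trans (MulEquiv.subgroupCongr (map_isometryGroup σ hQ))

theorem coe_isoE {Q : (ι → F) → F} {Q' : (ι → K) → K} (hQ : ∀ v, Q' (σ ∘ v) = σ (Q v)) (g : ↥(isometryGroup F Q)) :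
    (((isoE σ hQ g : ↥(isometryGroup K Q')) : GL ι K) : Matrix ι ι K) = ((g : GL ι F) : Matrix ι ι F).map σ := rfl

theorem map_commutator {A B : Type*} [Group A] [Group B] (e : A ≃* B) :
    (commutator A).map e.toMonoidHom = commutator B := by
  rw [commutator_def, commutator_def, Subgroup.map_commutator, ← MonoidHom.range_eq_map,
    MonoidHom.range_eq_top.2 e.surjective]

/-- `Ω` over isomorphic fields -/
noncomputable def omE {Q : (ι → F) → F} {Q' : (ι → K) → K} (hQ : ∀ v, Q' (σ ∘ v) = σ (Q v)) :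
    ↥(Omega F Q) ≃* ↥(Omega K Q') :=
  ((isoE σ hQ).subgroupMap (Omega F Q)).trans (MulEquiv.subgroupCongr (map_commutator (isoE σ hQ)))

theorem coe_omE {Q : (ι → F) → F} {Q' : (ι → K) → K} (hQ : ∀ v, Q' (σ ∘ v) = σ (Q v)) (g : ↥(Omega F Q)) :
    ((omE σ hQ g : ↥(Omega K Q')) : ↥(isometryGroup K Q')) = isoE σ hQ g := rfl

theorem mem_omega_iff {Q : (ι → F) → F} {Q' : (ι → K) → K} (hQ : ∀ v, Q' (σ ∘ v) = σ (Q v))
    (g : ↥(isometryGroup F Q)) : isoE σ hQ g ∈ Omega K Q' ↔ g ∈ Omega F Q := by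
  show isoE σ hQ g ∈ commutator _ ↔ _
  rw [← map_commutator (isoE σ hQ)]
  constructor
  · rintro ⟨x, hx, hxg⟩
    have : x = g := (isoE σ hQ).injective hxg
    rwa [← this]
  · intro h
    exact ⟨g, h, rfl⟩

/-- `PΩ` over isomorphic fields -/
noncomputable def pomE {Q : (ι → F) → F} {Q' : (ι → K) → K} (hQ : ∀ v, Q' (σ ∘ v) = σ (Q v)) :
    POmega F Q ≃* POmega K Q' :=
  Cfsg.Agent.LieClassical.FieldTransfer.centralQuotientCongr (omE σ hQ)

end Fields

/-! ### Groups -/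

section Groups

variable {G : Type u} {G' : Type v} [Group G] [Group G'] (g : G ≃* G')

theorem exists_small_group (G : Type u) [Group G] [Finite G] :
    ∃ (G' : Type) (_ : Group G') (_ : Finite G'), Nonempty (G ≃* G') := by
  have : Small.{0} G := Countable.toSmall G
  have e : G ≃* Shrink.{0} G := (Shrink.mulEquiv (α := G)).symm
  exact ⟨Shrink.{0} G, inferInstance, Finite.of_equiv G e.toEquiv, ⟨e⟩⟩

theorem map_centralizer (A : Set G) :
    (centralizer A).map g.toMonoidHom = centralizer (g '' A) := by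
  ext x
  rw [Subgroup.mem_centralizer_iff]
  constructor
  · rintro ⟨y, hy, rfl⟩ _ ⟨a, ha, rfl⟩
    show g a * g y = g y * g a
    rw [← map_mul, Subgroup.mem_centralizer_iff.1 hy a ha, map_mul]
  · intro hx
    refine ⟨g.symm x, ?_, g.apply_symm_apply x⟩
    rw [SetLike.mem_coe, Subgroup.mem_centralizer_iff]
    intro a ha
    apply g.injective
    rw [map_mul, map_mul, g.apply_symm_apply]
    exact hx (g a) ⟨a, ha, rfl⟩

theorem map_centralizer_singleton (t : G) :
    (centralizer ({t} : Set G)).map g.toMonoidHom = centralizer ({g t} : Set G') := by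
  rw [map_centralizer, Set.image_singleton]

theorem map_centralizer_coe (M : Subgroup G) :
    (centralizer (M : Set G)).map g.toMonoidHom = centralizer ((M.map g.toMonoidHom : Subgroup G') : Set G') := by
  rw [map_centralizer]
  rfl

theorem map_normal {N : Subgroup G} (hN : N.Normal) : (N.map g.toMonoidHom).Normal :=
  hN.map g.toMonoidHom g.surjective

theorem card_map (N : Subgroup G) : Nat.card ↥(N.map g.toMonoidHom) = Nat.card ↥N :=
  Subgroup.card_map_of_injective g.injective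

theorem map_symm_map (N : Subgroup G) : (N.map g.toMonoidHom).map g.symm.toMonoidHom = N := by
  rw [Subgroup.map_map]
  have h1 : g.symm.toMonoidHom.comp g.toMonoidHom = MonoidHom.id G := by
    ext x
    exact g.symm_apply_apply x
  rw [h1, Subgroup.map_id]

theorem map_map_symm (N : Subgroup G') : (N.map g.symm.toMonoidHom).map g.toMonoidHom = N := map_symm_map g.symm N

theorem map_pPrimeCore_le (p : ℕ) : (pPrimeCore p G).map g.toMonoidHom ≤ pPrimeCore p G' := by
  rw [pPrimeCore, Subgroup.map_le_iff_le_comap]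
  refine sSup_le fun N hN => ?_
  rw [← Subgroup.map_le_iff_le_comap]
  refine le_sSup ⟨map_normal g hN.1, ?_⟩
  rw [card_map]
  exact hN.2

theorem map_oddCore : (oddCore G).map g.toMonoidHom = oddCore G' := by
  apply le_antisymm (map_pPrimeCore_le g 2)
  have h1 := map_pPrimeCore_le g.symm 2
  have h2 := Subgroup.map_mono (f := g.toMonoidHom) h1
  rwa [map_map_symm] at h2

theorem map_injective_eq {A B : Subgroup G} (h : A.map g.toMonoidHom = B.map g.toMonoidHom) : A = B :=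
  Subgroup.map_injective g.injective h

theorem relIndex_map (A B : Subgroup G) :
    (A.map g.toMonoidHom).relIndex (B.map g.toMonoidHom) = A.relIndex B :=
  Subgroup.relIndex_map_map_of_injective A B g.injective

end Groups

/-! ### The configuration -/

section Main

variable {F : Type u} [Field F] {n : ℕ}

theorem dq_map {K : Type v} [Field K] (σ : F ≃+* K) {k : ℕ} (c : Fin k → F) (v : Fin k → F) :
    (fun w : Fin k → K => ∑ i, (σ ∘ c) i * w i ^ 2) (σ ∘ v) = σ ((fun w : Fin k → F => ∑ i, c i * w i ^ 2) v) := by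
  simp

/-- transport of conclusion (b) -/
theorem back_b {G : Type u} {G' : Type v} [Group G] [Group G'] (g : G ≃* G') (M : Subgroup G)
    (h : ∃ G₁ G₂ : Subgroup G', G₁.Normal ∧ G₂.Normal ∧ M.map g.toMonoidHom ≤ G₁ ∧ G₁ ≤ G₂ ∧
      Odd ((M.map g.toMonoidHom).relIndex G₁) ∧ Odd G₂.index ∧
      ∃ (K : Type) (_ : Field K) (_ : Fintype K), Odd (Fintype.card K) ∧
        ∃ f : ↥G₂ →* (GL (Fin 2) K ⧸ Subgroup.center (GL (Fin 2) K)),
          Function.Surjective f ∧ f.ker = G₁.subgroupOf G₂) :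
    ∃ G₁ G₂ : Subgroup G, G₁.Normal ∧ G₂.Normal ∧ M ≤ G₁ ∧ G₁ ≤ G₂ ∧
      Odd (M.relIndex G₁) ∧ Odd G₂.index ∧
      ∃ (K : Type) (_ : Field K) (_ : Fintype K), Odd (Fintype.card K) ∧
        ∃ f : ↥G₂ →* (GL (Fin 2) K ⧸ Subgroup.center (GL (Fin 2) K)),
          Function.Surjective f ∧ f.ker = G₁.subgroupOf G₂ := by
  obtain ⟨G₁, G₂, h1, h2, h3, h4, h5, h6, K, i1, i2, h7, f, h8, h9⟩ := h
  refine ⟨G₁.map g.symm.toMonoidHom, G₂.map g.symm.toMonoidHom, map_normal g.symm h1, map_normal g.symm h2, ?_,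
    Subgroup.map_mono h4, ?_, ?_, K, i1, i2, h7, ?_⟩
  · have := Subgroup.map_mono (f := g.symm.toMonoidHom) h3
    rwa [map_symm_map] at this
  · rw [← map_symm_map g M, relIndex_map g.symm]
    exact h5
  · have := Subgroup.index_map_equiv G₂ g.symm
    rw [show (G₂.map g.symm.toMonoidHom).index = G₂.index from this]
    exact h6
  · let e : ↥(G₂.map g.symm.toMonoidHom) ≃* ↥G₂ :=
      (g.symm.subgroupMap G₂).symm
    refine ⟨f.comp e.toMonoidHom, h8.comp e.surjective, ?_⟩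
    ext y
    have hy : g.symm ((e y : ↥G₂) : G') = (y : G) :=
      congrArg Subtype.val ((g.symm.subgroupMap G₂).apply_symm_apply y)
    have h10 : f (e y) = 1 ↔ ((e y : ↥G₂) : G') ∈ G₁ := by
      rw [← MonoidHom.mem_ker, h9, Subgroup.mem_subgroupOf]
    show f (e y) = 1 ↔ (y : G) ∈ G₁.map g.symm.toMonoidHom
    rw [h10, ← hy]
    constructor
    · intro h
      exact ⟨_, h, rfl⟩
    · rintro ⟨w, hw, hwx⟩
      have : w = (e y : ↥G₂) := g.symm.injective hwx
      rwa [← this]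

/-- transport of conclusion (c) -/
theorem back_c {K : Type} [Field K] (σ : F ≃+* K) (c : Fin n → F) {G : Type v} [Group G] {G' : Type} [Group G']
    (g : G ≃* G') (h : ConclC (σ ∘ c) G') :
    ∃ G₀ : Subgroup G, G₀.Normal ∧
      (∃ c' : Fin (n + 2) → F, (∀ i, c' i ≠ 0) ∧ (IsSquare (∏ i, c' i) ↔ IsSquare (∏ i, c i)) ∧
        (Nonempty (↥G₀ ≃* Cfsg.POmega F (fun v : Fin (n + 2) → F => ∑ i, c' i * v i ^ 2)) ∨
          Nonempty (↥G₀ ≃* ↥(Cfsg.Omega F (fun v : Fin (n + 2) → F => ∑ i, c' i * v i ^ 2))))) ∧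
      ∃ W : Subgroup G, IsCyclic ↥W ∧ Odd (Nat.card ↥W) ∧ W ⊓ G₀ = ⊥ ∧ W ⊔ G₀ = ⊤ ∧
        W ⊓ Subgroup.centralizer (G₀ : Set G) = ⊥ := by
  obtain ⟨G₀, h1, ⟨c', h2, h3, h4⟩, W, h5, h6, h7, h8, h9⟩ := h
  have hinj := g.symm.injective
  refine ⟨G₀.map g.symm.toMonoidHom, map_normal g.symm h1, ⟨σ.symm ∘ c', ?_, ?_, ?_⟩,
    W.map g.symm.toMonoidHom, ?_, ?_, ?_, ?_, ?_⟩
  · intro i h
    apply h2 i
    have : σ.symm (c' i) = 0 := h
    rwa [map_eq_zero] at this
  · have hsq : ∀ x : F, IsSquare (σ x) ↔ IsSquare x := by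
      intro x
      constructor
      · rintro ⟨y, hy⟩
        refine ⟨σ.symm y, ?_⟩
        apply σ.injective
        rw [map_mul, σ.apply_symm_apply, hy]
      · rintro ⟨y, hy⟩
        exact ⟨σ y, by rw [hy, map_mul]⟩
    have h10 : σ (∏ i, (σ.symm ∘ c') i) = ∏ i, c' i := by
      rw [map_prod]
      exact Finset.prod_congr rfl fun i _ => σ.apply_symm_apply _
    have h11 : σ (∏ i, c i) = ∏ i, (σ ∘ c) i := by
      rw [map_prod]
      rfl
    rw [← hsq, h10, h3, ← h11, hsq]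
  · have hc : (σ ∘ (σ.symm ∘ c')) = c' := by
      funext i
      exact σ.apply_symm_apply _
    have e0 : ↥(G₀.map g.symm.toMonoidHom) ≃* ↥G₀ := (g.symm.subgroupMap G₀).symm
    have hQ := dq_map σ (σ.symm ∘ c')
    rw [hc] at hQ
    rcases h4 with ⟨⟨e⟩⟩ | ⟨⟨e⟩⟩
    · left
      exact ⟨(e0.trans e).trans (pomE σ hQ).symm⟩
    · right
      exact ⟨(e0.trans e).trans (omE σ hQ).symm⟩
  · exact isCyclic_of_surjective (g.symm.subgroupMap W).toMonoidHom (g.symm.subgroupMap W).surjective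
  · rw [card_map]
    exact h6
  · rw [← Subgroup.map_inf _ _ _ hinj, h7, Subgroup.map_bot]
  · rw [← Subgroup.map_sup, h8, ← MonoidHom.range_eq_map, MonoidHom.range_eq_top.2 g.symm.surjective]
  · rw [← map_centralizer_coe, ← Subgroup.map_inf _ _ _ hinj, h9, Subgroup.map_bot]

/-- **The reduction of the universes** -/
theorem red (main : PMain0)
    (F : Type*) [Field F] [Fintype F] [DecidableEq F] (q : ℕ) (hF : Fintype.card F = q) (hq : Odd q)
    (n : ℕ) (c : Fin n → F) (hc : ∀ i, c i ≠ 0)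
    (h6 : (q % 4 = 1 → 9 ≤ n ∨ (n = 8 ∧ IsSquare (∏ i, c i))) ∧
      (q % 4 = 3 → 14 ≤ n ∨ (n = 12 ∧ IsSquare (∏ i, c i)) ∨ (n = 10 ∧ ¬ IsSquare (∏ i, c i))))
    {G : Type*} [Group G] [Finite G] (t : G) (ht : t ≠ 1 ∧ t * t = 1)
    (M : Subgroup G) (hM : M ≤ Subgroup.centralizer {t})
    (hMn : (M.subgroupOf (Subgroup.centralizer {t})).Normal)
    (ψ : ↥(Cfsg.Omega F (fun v : Fin n → F => ∑ i, c i * v i ^ 2)) ≃* ↥M)
    (z z' : ↥(Cfsg.isometryGroup F (fun v : Fin n → F => ∑ i, c i * v i ^ 2))) (hz : z ≠ 1 ∧ z * z = 1) (hz' : z' ≠ 1 ∧ z' * z' = 1)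
    (hdet : ((z : GL (Fin n) F) : Matrix (Fin n) (Fin n) F).det = -1 ∧
      ((z' : GL (Fin n) F) : Matrix (Fin n) (Fin n) F).det = -1)
    (hcoset : z⁻¹ * z' ∉ Cfsg.Omega F (fun v : Fin n → F => ∑ i, c i * v i ^ 2))
    (u u' : G) (hu : u ∈ Subgroup.centralizer {t} ∧ u ≠ 1 ∧ u * u = 1)
    (hu' : u' ∈ Subgroup.centralizer {t} ∧ u' ≠ 1 ∧ u' * u' = 1)
    (h2 : ∀ m m' : ↥(Cfsg.Omega F (fun v : Fin n → F => ∑ i, c i * v i ^ 2)), (m' : ↥(Cfsg.isometryGroup F (fun v : Fin n → F => ∑ i, c i * v i ^ 2))) = z * (m : ↥(Cfsg.isometryGroup F (fun v : Fin n → F => ∑ i, c i * v i ^ 2))) * z⁻¹ → u * (ψ m : G) * u⁻¹ = ψ m')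
    (h2' : ∀ m m' : ↥(Cfsg.Omega F (fun v : Fin n → F => ∑ i, c i * v i ^ 2)), (m' : ↥(Cfsg.isometryGroup F (fun v : Fin n → F => ∑ i, c i * v i ^ 2))) = z' * (m : ↥(Cfsg.isometryGroup F (fun v : Fin n → F => ∑ i, c i * v i ^ 2))) * z'⁻¹ → u' * (ψ m : G) * u'⁻¹ = ψ m')
    (h3 : Odd ((M ⊔ Subgroup.closure {u, u'}).relIndex (Subgroup.centralizer {t})))
    (h4 : ∀ h : ↥(Cfsg.Omega F (fun v : Fin n → F => ∑ i, c i * v i ^ 2)), (h : ↥(Cfsg.isometryGroup F (fun v : Fin n → F => ∑ i, c i * v i ^ 2))) = z * z' * z⁻¹ * z'⁻¹ →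
      Even (orderOf (u * u' * u⁻¹ * u'⁻¹ * (ψ h : G)⁻¹)))
    (h5 : (q % 4 = 1 →
        2 * Nat.card ↥(Subgroup.centralizer {t} ⊓ Subgroup.centralizer (M : Set G)) < 3 * (q - 1) ∨
          Nat.card ↥(Subgroup.centralizer {t} ⊓ Subgroup.centralizer (M : Set G)) / 2 ^ ((Nat.card ↥(Subgroup.centralizer {t} ⊓ Subgroup.centralizer (M : Set G))).factorization 2) < 3 * ((q - 1) / 2 ^ ((q - 1).factorization 2))) ∧
      (q % 4 = 3 →
        2 * Nat.card ↥(Subgroup.centralizer {t} ⊓ Subgroup.centralizer (M : Set G)) < 3 * (q + 1) ∨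
          Nat.card ↥(Subgroup.centralizer {t} ⊓ Subgroup.centralizer (M : Set G)) / 2 ^ ((Nat.card ↥(Subgroup.centralizer {t} ⊓ Subgroup.centralizer (M : Set G))).factorization 2) < 3 * ((q + 1) / 2 ^ ((q + 1).factorization 2)))) :
    (Subgroup.centralizer {t} ⊔ Cfsg.oddCore G = ⊤) ∨
    (Odd n ∧ M.Normal ∧ ∃ G₁ G₂ : Subgroup G, G₁.Normal ∧ G₂.Normal ∧ M ≤ G₁ ∧ G₁ ≤ G₂ ∧
      Odd (M.relIndex G₁) ∧ Odd G₂.index ∧
      ∃ (K : Type) (_ : Field K) (_ : Fintype K), Odd (Fintype.card K) ∧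
        ∃ f : ↥G₂ →* (GL (Fin 2) K ⧸ Subgroup.center (GL (Fin 2) K)),
          Function.Surjective f ∧ f.ker = G₁.subgroupOf G₂) ∨
    (∃ G₀ : Subgroup G, G₀.Normal ∧
      (∃ c' : Fin (n + 2) → F, (∀ i, c' i ≠ 0) ∧ (IsSquare (∏ i, c' i) ↔ IsSquare (∏ i, c i)) ∧
        (Nonempty (↥G₀ ≃* Cfsg.POmega F (fun v : Fin (n + 2) → F => ∑ i, c' i * v i ^ 2)) ∨ Nonempty (↥G₀ ≃* ↥(Cfsg.Omega F (fun v : Fin (n + 2) → F => ∑ i, c' i * v i ^ 2))))) ∧
      ∃ W : Subgroup G, IsCyclic ↥W ∧ Odd (Nat.card ↥W) ∧ W ⊓ G₀ = ⊥ ∧ W ⊔ G₀ = ⊤ ∧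
        W ⊓ Subgroup.centralizer (G₀ : Set G) = ⊥) := by
  classical
  obtain ⟨K, i1, i2, ⟨σ'⟩⟩ := Cfsg.Agent.PermutationGroups.FieldCoord.exists_small_field F
  obtain ⟨G', i3, i4, ⟨g⟩⟩ := exists_small_group G
  let σ : F ≃+* K := σ'.symm
  have hcard : Fintype.card K = q := by
    rw [← hF]
    exact Fintype.card_congr σ'.toEquiv
  let c' : Fin n → K := σ ∘ c
  have hQ : ∀ v : Fin n → F, (fun w : Fin n → K => ∑ i, c' i * w i ^ 2) (σ ∘ v) =
      σ ((fun w : Fin n → F => ∑ i, c i * w i ^ 2) v) := dq_map σ c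
  have hsq : IsSquare (∏ i, c' i) ↔ IsSquare (∏ i, c i) := by
    have h11 : σ (∏ i, c i) = ∏ i, c' i := by
      rw [map_prod]
      rfl
    rw [← h11]
    constructor
    · rintro ⟨y, hy⟩
      refine ⟨σ.symm y, ?_⟩
      apply σ.injective
      rw [map_mul, σ.apply_symm_apply, hy]
    · rintro ⟨y, hy⟩
      exact ⟨σ y, by rw [hy, map_mul]⟩
  have hSp : Sp c' := by
    refine ⟨by rw [hcard]; exact hq, ?_, ?_⟩
    · intro i h
      apply hc i
      have : σ (c i) = 0 := h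
      rwa [map_eq_zero] at this
    · rw [hcard, hsq]
      exact h6
  let eO : ↥(isometryGroup F (fun w : Fin n → F => ∑ i, c i * w i ^ 2)) ≃*
      ↥(isometryGroup K (fun w : Fin n → K => ∑ i, c' i * w i ^ 2)) :=
    isoE (Q := fun w : Fin n → F => ∑ i, c i * w i ^ 2) (Q' := fun w : Fin n → K => ∑ i, c' i * w i ^ 2) σ hQ
  let eΩ : ↥(Omega F (fun w : Fin n → F => ∑ i, c i * w i ^ 2)) ≃*
      ↥(Omega K (fun w : Fin n → K => ∑ i, c' i * w i ^ 2)) :=
    omE (Q := fun w : Fin n → F => ∑ i, c i * w i ^ 2) (Q' := fun w : Fin n → K => ∑ i, c' i * w i ^ 2) σ hQ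
  let Ψ : ↥(Omega K (fun w : Fin n → K => ∑ i, c' i * w i ^ 2)) →* G' :=
    g.toMonoidHom.comp (M.subtype.comp (ψ.toMonoidHom.comp eΩ.symm.toMonoidHom))
  have hΨ : ∀ m, Ψ m = g (ψ (eΩ.symm m) : G) := fun _ => rfl
  have hrange : Ψ.range = M.map g.toMonoidHom := by
    ext x
    constructor
    · rintro ⟨m, rfl⟩
      exact ⟨_, (ψ (eΩ.symm m)).2, rfl⟩
    · rintro ⟨y, hy, rfl⟩
      refine ⟨eΩ (ψ.symm ⟨y, hy⟩), ?_⟩
      rw [hΨ, eΩ.symm_apply_apply, ψ.apply_symm_apply]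
      rfl
  have hmem : ∀ x : G, x ∈ centralizer ({t} : Set G) ↔ x * t = t * x := by
    intro x
    rw [Subgroup.mem_centralizer_singleton_iff]
  have hcj : ∀ (y : ↥(isometryGroup F (fun w : Fin n → F => ∑ i, c i * w i ^ 2)))
      (m : ↥(Omega K (fun w : Fin n → K => ∑ i, c' i * w i ^ 2))),
      ((eΩ.symm (cj (eO y) m) : ↥(Omega F (fun w : Fin n → F => ∑ i, c i * w i ^ 2))) :
        ↥(isometryGroup F (fun w : Fin n → F => ∑ i, c i * w i ^ 2))) =
      y * ((eΩ.symm m : ↥(Omega F (fun w : Fin n → F => ∑ i, c i * w i ^ 2))) :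
        ↥(isometryGroup F (fun w : Fin n → F => ∑ i, c i * w i ^ 2))) * y⁻¹ := by
    intro y m
    apply eO.injective
    have h1 : ∀ m' : ↥(Omega K (fun w : Fin n → K => ∑ i, c' i * w i ^ 2)),
        eO ((eΩ.symm m' : ↥(Omega F (fun w : Fin n → F => ∑ i, c i * w i ^ 2))) :
          ↥(isometryGroup F (fun w : Fin n → F => ∑ i, c i * w i ^ 2))) = m' :=
      fun m' => congrArg Subtype.val (eΩ.apply_symm_apply m')
    rw [map_mul, map_mul, map_inv, h1, h1]
    rfl
  have hdetm : ∀ y : ↥(isometryGroup F (fun w : Fin n → F => ∑ i, c i * w i ^ 2)),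
      (((y : GL (Fin n) F)) : Matrix (Fin n) (Fin n) F).det = -1 → (mx (eO y)).det = -1 := by
    intro y hy
    have h1 : mx (eO y) = ((y : GL (Fin n) F) : Matrix (Fin n) (Fin n) F).map σ := rfl
    rw [h1]
    have h2 : (((y : GL (Fin n) F) : Matrix (Fin n) (Fin n) F).map σ).det =
        σ (((y : GL (Fin n) F) : Matrix (Fin n) (Fin n) F).det) := (RingHom.map_det σ.toRingHom _).symm
    rw [h2, hy, map_neg, map_one]
  have huψ : ∀ (a : G) (y : ↥(isometryGroup F (fun w : Fin n → F => ∑ i, c i * w i ^ 2))),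
      (∀ m m' : ↥(Omega F (fun v : Fin n → F => ∑ i, c i * v i ^ 2)),
        (m' : ↥(isometryGroup F (fun v : Fin n → F => ∑ i, c i * v i ^ 2))) =
          y * (m : ↥(isometryGroup F (fun v : Fin n → F => ∑ i, c i * v i ^ 2))) * y⁻¹ →
        a * (ψ m : G) * a⁻¹ = ψ m') → ∀ m, g a * Ψ m * (g a)⁻¹ = Ψ (cj (eO y) m) := by
    intro a y h m
    rw [hΨ, hΨ, ← h (eΩ.symm m) (eΩ.symm (cj (eO y) m)) (hcj y m), map_mul, map_mul, map_inv]
  let s : Cfg c' G' :=
    { t := g t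
      t1 := fun h => ht.1 (g.injective (by rw [h, map_one]))
      tt := by rw [← map_mul, ht.2, map_one]
      ψ := Ψ
      inj := by
        intro a b hab
        have h1 := g.injective hab
        exact eΩ.symm.injective (ψ.injective (Subtype.ext h1))
      fix := by
        intro m
        rw [hΨ, ← map_mul, ← map_mul]
        congr 1
        exact ((hmem _).1 (hM (ψ (eΩ.symm m)).2)).symm
      nrm := by
        intro x hx m
        rw [hrange, hΨ]
        have h1 : g.symm x ∈ centralizer ({t} : Set G) := by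
          rw [hmem]
          apply g.injective
          rw [map_mul, map_mul, g.apply_symm_apply]
          exact hx
        have h2 := hMn.conj_mem ⟨(ψ (eΩ.symm m) : G), hM (ψ (eΩ.symm m)).2⟩ (ψ (eΩ.symm m)).2 ⟨_, h1⟩
        refine ⟨g.symm x * (ψ (eΩ.symm m) : G) * (g.symm x)⁻¹, h2, ?_⟩
        show g _ = _
        rw [map_mul, map_mul, map_inv, g.apply_symm_apply]
      z := eO z
      z' := eO z'
      zz := by rw [← map_mul, hz.2, map_one]
      zz' := by rw [← map_mul, hz'.2, map_one]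
      dz := hdetm z hdet.1
      dz' := hdetm z' hdet.2
      cos := by
        have h1 : (eO z)⁻¹ * eO z' = eO (z⁻¹ * z') := by rw [map_mul, map_inv]
        show (eO z)⁻¹ * eO z' ∉ _
        rw [h1]
        intro h2
        exact hcoset ((mem_omega_iff (Q := fun w : Fin n → F => ∑ i, c i * w i ^ 2)
          (Q' := fun w : Fin n → K => ∑ i, c' i * w i ^ 2) σ hQ _).1 h2)
      u := g u
      u' := g u'
      ut := by rw [← map_mul, ← map_mul, (hmem u).1 hu.1]
      ut' := by rw [← map_mul, ← map_mul, (hmem u').1 hu'.1]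
      uu := by rw [← map_mul, hu.2.2, map_one]
      uu' := by rw [← map_mul, hu'.2.2, map_one]
      uψ := huψ u z h2
      uψ' := huψ u' z' h2'
      idx := by
        have h1 : Ψ.range ⊔ closure {g u, g u'} = (M ⊔ closure {u, u'}).map g.toMonoidHom := by
          rw [hrange, Subgroup.map_sup, MonoidHom.map_closure]
          congr 2
          exact (Set.image_pair g u u').symm
        rw [h1, ← map_centralizer_singleton, relIndex_map]
        exact h3
      ev := by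
        have h1 := h4 ⟨z * z' * z⁻¹ * z'⁻¹, commutator_mem_commutator (mem_top z) (mem_top z')⟩ rfl
        have h7 : g u * g u' * (g u)⁻¹ * (g u')⁻¹ *
            (Ψ ⟨eO z * eO z' * (eO z)⁻¹ * (eO z')⁻¹, commutator_mem_commutator (mem_top _) (mem_top _)⟩)⁻¹ =
            g (u * u' * u⁻¹ * u'⁻¹ *
              (ψ ⟨z * z' * z⁻¹ * z'⁻¹, commutator_mem_commutator (mem_top z) (mem_top z')⟩ : G)⁻¹) := by
          have h8 : eΩ.symm ⟨eO z * eO z' * (eO z)⁻¹ * (eO z')⁻¹, commutator_mem_commutator (mem_top _) (mem_top _)⟩ =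
              ⟨z * z' * z⁻¹ * z'⁻¹, commutator_mem_commutator (mem_top z) (mem_top z')⟩ := by
            apply eΩ.injective
            rw [eΩ.apply_symm_apply]
            apply Subtype.ext
            show eO z * eO z' * (eO z)⁻¹ * (eO z')⁻¹ = eO (z * z' * z⁻¹ * z'⁻¹)
            rw [map_mul, map_mul, map_mul, map_inv, map_inv]
          rw [hΨ, h8, map_mul, map_mul, map_mul, map_mul, map_inv, map_inv, map_inv]
        rw [h7, MulEquiv.orderOf_eq g]
        exact h1 }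
  have hsM : s.M = M.map g.toMonoidHom := hrange
  have hsQ : s.Q = (centralizer ({t} : Set G) ⊓ centralizer (M : Set G)).map g.toMonoidHom := by
    show centralizer {g t} ⊓ centralizer ((Ψ.range : Subgroup G') : Set G') = _
    rw [Subgroup.map_inf _ _ _ g.injective, map_centralizer_singleton, map_centralizer_coe, hrange]
  have hcQ : Nat.card ↥s.Q = Nat.card ↥(centralizer ({t} : Set G) ⊓ centralizer (M : Set G)) := by
    rw [hsQ, card_map]
  have key := main c' hSp s (by rw [hcQ, hcard]; exact h5)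
  rcases key with h | ⟨h7, h8, h9⟩ | h
  · left
    apply map_injective_eq g
    rw [Subgroup.map_sup, map_centralizer_singleton, map_oddCore]
    have h7 : (⊤ : Subgroup G).map g.toMonoidHom = ⊤ := by
      rw [← MonoidHom.range_eq_map, MonoidHom.range_eq_top.2 g.surjective]
    rw [h7]
    exact h
  · right; left
    refine ⟨h7, ?_, ?_⟩
    · rw [hsM] at h8
      have := map_normal g.symm h8
      rwa [map_symm_map] at this
    · rw [hsM] at h9
      exact back_b g M h9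
  · right; right
    exact back_c σ c g h

end Main

end Cfsg.Agent.H519.OI
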